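import Groth.Agent.RefHullLib.BigOpen
import Groth.Prelude.Def_Coh

/-!
The extension of a coherent module from an open subscheme has depth at least two outside it.
-/

set_option autoImplicit false
universe u

open CategoryTheory CategoryTheory.Limits AlgebraicGeometry TopologicalSpace Opposite
open ModGlueLib (rs)

noncomputable section

namespace DepthPushLib

theorem bijective_map_of_eq {X : Scheme.{u}} (L : X.Modules) {V V' : X.Opens} (e : V = V') (h : V' ≤ V) :
    Function.Bijective (L.presheaf.map (homOfLE h).op) := by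
  subst e
  rw [show (homOfLE h).op = 𝟙 (op V) from rfl, CategoryTheory.Functor.map_id]
  exact Function.bijective_id

variable {X : Scheme.{u}} [IsLocallyNoetherian X] (U : X.Opens) (L : (U : Scheme.{u}).Modules)

theorem isZClosed_push : ZClos.IsZClosed ((U : Set X)ᶜ) ((Scheme.Modules.pushforward U.ι).obj L) := by
  have hZ : StableUnderSpecialization ((U : Set X)ᶜ) := U.isOpen.isClosed_compl.stableUnderSpecialization
  have key : ∀ ⦃W W' : X.Opens⦄ (hle : W' ≤ W), (W : Set X) \ W' ⊆ (U : Set X)ᶜ →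
      Function.Bijective (rs ((Scheme.Modules.pushforward U.ι).obj L) hle) := fun W W' hle hd => by
    have e : U.ι ⁻¹ᵁ W' = U.ι ⁻¹ᵁ W := Opens.ext (Set.ext fun z =>
      ⟨fun h => hle h, fun h => by_contra fun h' => hd ⟨h, h'⟩ z.2⟩)
    exact bijective_map_of_eq L e.symm (U.ι.preimage_mono hle)
  exact (ZClosLib.isZClosed_iff hZ).2 ⟨fun W W' hle hd => (key hle hd).1, fun W W' hle hd => (key hle hd).2⟩

variable {U}

theorem two_le_depth (F : X.Modules) (hF' : Coh.IsCoh ((Scheme.Modules.pushforward U.ι).obj (F.restrict U.ι)))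
    {x : X} (hx : x ∉ U) : (2 : ℕ∞) ≤ LocCoh.depth (X.presheaf.stalk x)
      (((Scheme.Modules.pushforward U.ι).obj (F.restrict U.ι)).presheaf.stalk x) :=
  RefHullLib.depth_of_isZClosed U.isOpen.isClosed_compl.stableUnderSpecialization hF' (isZClosed_push U _) hx

variable (U)

theorem existsUnique_and_isIso (F G : X.Modules) (hG : Coh.IsCoh G) (φ : F ⟶ G)
    (hφ : IsIso ((Scheme.Modules.restrictFunctor U.ι).map φ))
    (hd : ∀ x : X, x ∉ U → (2 : ℕ∞) ≤ LocCoh.depth (X.presheaf.stalk x) (G.presheaf.stalk x)) :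
    (∃! ψ : G ⟶ (Scheme.Modules.pushforward U.ι).obj (F.restrict U.ι),
        φ ≫ ψ = (Scheme.Modules.restrictAdjunction U.ι).unit.app F) ∧
      ∀ ψ : G ⟶ (Scheme.Modules.pushforward U.ι).obj (F.restrict U.ι),
        φ ≫ ψ = (Scheme.Modules.restrictAdjunction U.ι).unit.app F → IsIso ψ := by
  let adj := Scheme.Modules.restrictAdjunction U.ι
  haveI := hφ
  haveI := RefHullLib.isIso_unit_of_depth U hG hd
  have key : ∀ ψ : G ⟶ (Scheme.Modules.pushforward U.ι).obj (F.restrict U.ι),
      φ ≫ ψ = adj.unit.app F ↔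
        ψ = adj.unit.app G ≫ (Scheme.Modules.pushforward U.ι).map
          (inv ((Scheme.Modules.restrictFunctor U.ι).map φ)) := fun ψ => by
    obtain ⟨ψ', rfl⟩ := (adj.homEquiv _ _).surjective ψ
    rw [← adj.homEquiv_id, ← adj.homEquiv_naturality_left]
    refine (Equiv.apply_eq_iff_eq _).trans (Iff.trans ?_ ((Iff.of_eq (congrArg (_ = ·) (adj.homEquiv_unit (f := inv ((Scheme.Modules.restrictFunctor U.ι).map φ))).symm)).trans (Equiv.apply_eq_iff_eq _)).symm)
    exact ⟨fun h => (IsIso.inv_eq_of_hom_inv_id h).symm, fun h => h ▸ IsIso.hom_inv_id _⟩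
  refine ⟨⟨_, (key _).2 rfl, fun ψ hψ => (key ψ).1 hψ⟩, fun ψ hψ => ?_⟩
  rw [(key ψ).1 hψ]
  infer_instance

end DepthPushLib
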